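import Groth.Agent.CurveCompl.Over
import Groth.Agent.CurveCompl.AffineOpen
import Groth.Agent.CurveRR.Multi2
import Groth.Agent.TMul.AffineLocus

/-!
A separated finite type scheme of dimension at most one without proper one-dimensional component is affine.
-/

set_option autoImplicit false
set_option backward.isDefEq.respectTransparency false
set_option backward.isDefEq.respectTransparency.types false
set_option linter.style.haveILetI false
set_option maxHeartbeats 1000000

universe u

open CategoryTheory CategoryTheory.Limits AlgebraicGeometry TopologicalSpace Opposite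

noncomputable section

namespace Groth.Agent.AffNoProperComp

theorem finite_of_points_closed {Z : Type u} [TopologicalSpace Z] [NoetherianSpace Z] [QuasiSober Z] {F : Set Z}
    (hF : IsClosed F) (h : ∀ y ∈ F, IsClosed ({y} : Set Z)) : F.Finite := by
  obtain ⟨S, hSfin, hScl, hSirr, hS⟩ := NoetherianSpace.exists_finite_set_isClosed_irreducible hF
  rw [hS]
  refine hSfin.sUnion fun t ht => ?_
  have hg := (hSirr t ht).isGenericPoint_genericPoint (hScl t ht)
  have hmem : (hSirr t ht).genericPoint ∈ F := hS ▸ Set.subset_sUnion_of_mem ht hg.mem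
  rw [← hg.def, (h _ hmem).closure_eq]
  exact Set.finite_singleton _

theorem isAffine_main (k : Type u) [Field k] (X : Scheme.{u}) [X.Over (Spec (CommRingCat.of k))]
    [IsSeparated (X ↘ (Spec (CommRingCat.of k)))] [LocallyOfFiniteType (X ↘ (Spec (CommRingCat.of k)))] [IsNoetherian X]
    (hdim : topologicalKrullDim X ≤ 1)
    (h : ∀ (C : Set X) (hC : C ∈ irreducibleComponents (X : Type u)), topologicalKrullDim C = 1 →
      ¬ IsProper ((X.irreducibleComponentIdeal C hC).radical.subschemeι ≫ (X ↘ (Spec (CommRingCat.of k))))) :
    IsAffine X := by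
  let s := X ↘ Spec (CommRingCat.of k)
  haveI : QuasiCompact s := inferInstance
  obtain ⟨Z, q, j, -, n, c, hq, hjO, hjr, -, -, hjq, -, hZdim, -, -⟩ :=
    CurveCompl.exists_completion_over s hdim (𝟙 (Spec (CommRingCat.of k))) s (Category.comp_id _)
  haveI := hq
  haveI := hjO
  obtain ⟨-, hbd⟩ := CurveCompl.dim_le_one_of_dense_immersion s hdim q j hjq hjr
  letI : Z.Over (Spec (CommRingCat.of k)) := ⟨q⟩
  haveI : IsProper (Z ↘ Spec (CommRingCat.of k)) := hq
  haveI := CurveRR.isNoetherian_of_proper k Z
  haveI : JacobsonSpace Z := LocallyOfFiniteType.jacobsonSpace q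
  let U : Z.Opens := j.opensRange
  have hU : (U : Set Z) = Set.range j.base := rfl
  have hfin : ((U : Set Z)ᶜ).Finite := finite_of_points_closed U.isOpen.isClosed_compl (fun y hy => hbd y hy)
  have hdisc : DiscreteTopology ↥((U : Set Z)ᶜ) := by
    haveI : Finite ↥((U : Set Z)ᶜ) := hfin.to_subtype
    haveI : T1Space ↥((U : Set Z)ᶜ) := ⟨fun y => by
      have : ({y} : Set ↥((U : Set Z)ᶜ)) = Subtype.val ⁻¹' {y.1} := Set.ext fun z => ⟨fun h => congrArg Subtype.val h, fun h => Subtype.ext h⟩
      rw [this]
      exact (hbd y.1 y.2).preimage continuous_subtype_val⟩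
    infer_instance
  obtain ⟨L, t, hL, ht⟩ := CurveCompl.exists_genLocus_eq U hdisc hZdim
  have hamp : CohB1.IsAmple L := by
    refine (CurveRR.Multi.isAmple_iff k hZdim hL).2 fun C hC hd => ?_
    have hCirr := hC.1
    have hCcl := isClosed_of_mem_irreducibleComponents C hC
    let η := hCirr.genericPoint
    have hη : IsGenericPoint η C := hCirr.isGenericPoint_genericPoint hCcl
    -- the generic point is in `U`
    have hηU : η ∈ Set.range j.base := by
      by_contra hη'
      have hc := hbd η hη'
      have : C = {η} := by rw [← hη.def, hc.closure_eq]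
      rw [this] at hd
      have h0 : topologicalKrullDim ({η} : Set Z) ≤ (0 : ℕ) := by
        refine Unibranch.topologicalKrullDim_le_natCast (e := 0) fun n s hs => ?_
        by_contra hn
        obtain ⟨-, hne⟩ := hs ⟨0, by omega⟩
        exact hne (Subsingleton.elim _ _)
      rw [hd] at h0
      exact absurd h0 (by decide)
    obtain ⟨x₀, hx₀⟩ := hηU
    -- the corresponding component of `X`
    let C₀ : Set X := j.base ⁻¹' C
    have hC₀ : C₀ = closure {x₀} := by
      rw [j.isOpenEmbedding.isEmbedding.closure_eq_preimage_closure_image, Set.image_singleton, hx₀, hη.def]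
    have hC₀mem : C₀ ∈ irreducibleComponents (X : Type u) := by
      refine ⟨hC₀ ▸ isIrreducible_singleton.closure, fun T hT hle => ?_⟩
      have hle' : C ⊆ closure (j.base '' T) := by
        rw [← hη.def]
        exact closure_mono (Set.singleton_subset_iff.2 ⟨x₀, hle (hC₀ ▸ subset_closure rfl), hx₀⟩)
      intro y hy
      have := hC.2 (hT.image j.base j.continuous.continuousOn).closure hle' (subset_closure ⟨y, hy, rfl⟩)
      exact this
    have hd₀ : topologicalKrullDim C₀ = 1 := by
      refine le_antisymm ((topologicalKrullDim_subspace_le X C₀).trans hdim) ?_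
      haveI : IrreducibleSpace C₀ := isIrreducible_iff_irreducibleSpace.1 hC₀mem.1
      refine Order.one_le_krullDim_iff.2 ?_
      by_contra hno
      push Not at hno
      have hx₀c : IsClosed ({x₀} : Set X) := by
        rw [← closure_subset_iff_isClosed]
        intro y hy
        by_contra hyne
        have hyC : y ∈ C₀ := hC₀ ▸ hy
        let a : C₀ := ⟨x₀, hC₀ ▸ subset_closure rfl⟩
        let b : C₀ := ⟨y, hyC⟩
        have hlt : (⟨closure {b}, isIrreducible_singleton.closure, isClosed_closure⟩ : IrreducibleCloseds C₀) <
            ⟨closure {a}, isIrreducible_singleton.closure, isClosed_closure⟩ := by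
          have hab : a ⤳ b := subtype_specializes_iff _ _ |>.2 (specializes_iff_mem_closure.2 hy)
          refine lt_of_le_of_ne (closure_minimal (Set.singleton_subset_iff.2 (specializes_iff_mem_closure.1 hab)) isClosed_closure) fun he => ?_
          have hba : b ⤳ a := specializes_iff_mem_closure.2 (by
            have e : closure ({b} : Set C₀) = closure {a} := congrArg (fun c : IrreducibleCloseds C₀ => (c : Set C₀)) he
            rw [e]; exact subset_closure rfl)
          have hyx := ((subtype_specializes_iff _ _).1 hab).antisymm ((subtype_specializes_iff _ _).1 hba)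
          exact hyne hyx.eq.symm
        exact hno _ _ hlt
      have hηc : IsClosed ({η} : Set Z) := by
        have := (j.isOpenEmbedding.preimage_closedPoints).ge (show x₀ ∈ closedPoints X from hx₀c)
        rw [← hx₀]
        exact this
      have : C = {η} := by rw [← hη.def, hηc.closure_eq]
      rw [this] at hd
      have h0 : topologicalKrullDim ({η} : Set Z) ≤ (0 : ℕ) := by
        refine Unibranch.topologicalKrullDim_le_natCast (e := 0) fun n s hs => ?_
        by_contra hn
        obtain ⟨-, hne⟩ := hs ⟨0, by omega⟩
        exact hne (Subsingleton.elim _ _)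
      rw [hd] at h0
      exact absurd h0 (by decide)
    -- `C` leaves `U`
    have hout : ∃ y ∈ C, y ∉ Set.range j.base := by
      by_contra hall
      push Not at hall
      let W := (X.irreducibleComponentIdeal C₀ hC₀mem).radical
      refine h C₀ hC₀mem hd₀ ?_
      have hr : Set.range (W.subschemeι ≫ j).base = C := by
        rw [Scheme.Hom.comp_base, TopCat.coe_comp, Set.range_comp, Scheme.IdealSheafData.range_subschemeι]
        show j.base '' C₀ = C
        rw [Set.image_preimage_eq_inter_range]
        exact Set.inter_eq_left.2 hall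
      haveI : IsClosedImmersion (W.subschemeι ≫ j) := IsClosedImmersion.of_isPreimmersion _ (hr ▸ hCcl)
      have e : W.subschemeι ≫ s = (W.subschemeι ≫ j) ≫ q := by rw [Category.assoc, hjq]
      show IsProper (W.subschemeι ≫ s)
      rw [e]
      infer_instance
    obtain ⟨y, hyC, hyU⟩ := hout
    let Zc : Closeds Z := ⟨C, hCcl⟩
    have hkey : (Z.irreducibleComponentIdeal C hC).radical = Scheme.IdealSheafData.vanishingIdeal Zc := by
      rw [← Scheme.IdealSheafData.vanishingIdeal_support]
      exact congrArg _ (Closeds.ext rfl)
    rw [hkey]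
    let I := Scheme.IdealSheafData.vanishingIdeal Zc
    have hIr : Set.range I.subschemeι = C := DvrDom.range_vanishingIdeal_subschemeι Zc
    haveI : IsIntegral I.subscheme := by
      have : (⟨closure {η}, isClosed_closure⟩ : Closeds Z) = Zc := Closeds.ext hη.def
      show IsIntegral (Scheme.IdealSheafData.vanishingIdeal Zc).subscheme
      rw [← this]
      exact Devissage.Zi_isIntegral η
    letI : I.subscheme.Over (Spec (CommRingCat.of k)) := ⟨I.subschemeι ≫ (Z ↘ Spec (CommRingCat.of k))⟩
    haveI : IsProper (I.subscheme ↘ Spec (CommRingCat.of k)) := inferInstanceAs (IsProper (I.subschemeι ≫ (Z ↘ Spec (CommRingCat.of k))))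
    let e := (PicLoc.pullbackStructureIso I.subschemeι).symm
    let t' := e.hom ≫ (Scheme.Modules.pullback I.subschemeι).map t
    have ht' : CohB1.genLocus _ t' = I.subschemeι ⁻¹ᵁ U := by rw [TMul.genLocus_pullback I.subschemeι hL t e, ht]
    obtain ⟨y', hy'⟩ : y ∈ Set.range I.subschemeι := hIr.ge hyC
    obtain ⟨η', hη'⟩ : η ∈ Set.range I.subschemeι := hIr.ge hη.mem
    refine CurveRR.Easy.deg_pos_of_vanishing (k := k) ?_ (PicLoc.isInvertible_pullback I.subschemeι hL) t' ?_ (x := y') ?_
    · rw [(I.subschemeι.isClosedEmbedding.isEmbedding.toHomeomorph).isHomeomorph.topologicalKrullDim_eq, hIr, hd]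
    · intro h0
      have : η' ∈ CohB1.genLocus _ t' := by
        rw [ht']
        show I.subschemeι η' ∈ U
        rw [hη']
        exact ⟨x₀, hx₀⟩
      rw [h0, TMul.genLocus_zero] at this
      exact this
    · rw [ht']
      intro hy
      apply hyU
      rw [← hy']
      exact hy
  have hA := TMul.isAffineOpen_genLocus_of_universallyClosed (Z ↘ Spec (CommRingCat.of k)) hamp t
  rw [ht] at hA
  haveI : IsAffine j.opensRange.toScheme := hA
  exact IsAffine.of_isIso j.isoOpensRange.hom

end Groth.Agent.AffNoProperComp
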